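import Cfsg.Prelude.Def_SolvableStructure
import Cfsg.Agent.S0046
import Cfsg.Agent.Transfer.HallComplement
import Cfsg.Agent.Coprime.Abelian
import Cfsg.Agent.FrattiniTheory.Basic

/-!
The structure of minimal non-nilpotent and minimal non-abelian finite groups (Schmidt,
Miller–Moreno).
-/

open Pointwise
open scoped commutatorElement

namespace CfsgLib.MinimalNonNilpotent

variable {G : Type*} [Group G] [Finite G]

omit [Finite G] in
theorem commute_of_isNilpotent {p q : ℕ} [Fact p.Prime] [Fact q.Prime] (hpq : p ≠ q)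
    {H A B : Subgroup G} [Finite H] (hH : Group.IsNilpotent H) (hA : A ≤ H) (hB : B ≤ H)
    (hAp : IsPGroup p A) (hBq : IsPGroup q B) : A ≤ Subgroup.centralizer (B : Set G) := by
  haveI := hH
  intro a ha
  refine Subgroup.mem_centralizer_iff.mpr fun b hb => ?_
  obtain ⟨P, hP⟩ := (hAp.of_equiv (Subgroup.subgroupOfEquivOfLe hA).symm).exists_le_sylow
  obtain ⟨Q, hQ⟩ := (hBq.of_equiv (Subgroup.subgroupOfEquivOfLe hB).symm).exists_le_sylow
  exact (congrArg Subtype.val (Subgroup.commute_of_normal_of_disjoint _ _ inferInstance inferInstance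
    (IsPGroup.disjoint_of_ne p q hpq _ _ P.2 Q.2) (⟨a, hA ha⟩ : H) ⟨b, hB hb⟩
    (hP ha) (hQ hb)).eq).symm

theorem isSolvable (hG : Cfsg.IsMinimalNonNilpotent G) : Group.IsSolvable G :=
  Cfsg.Agent.S0046.result fun M hM => hG.2 M hM.1

/-- Schmidt's structure theorem. -/
theorem structure_theorem (hG : Cfsg.IsMinimalNonNilpotent G) :
    ∃ p q : ℕ, p.Prime ∧ q.Prime ∧ p ≠ q ∧ ∃ (P : Sylow p G) (Q : Sylow q G),
      IsCyclic P ∧ (Q : Subgroup G).Normal ∧ (P : Subgroup G) ⊔ Q = ⊤ ∧
      ¬ (P : Subgroup G) ≤ Subgroup.centralizer ((Q : Subgroup G) : Set G) := by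
  have hsol := isSolvable hG
  have : Nontrivial G := by
    by_contra h
    have : Subsingleton G := not_nontrivial_iff_subsingleton.mp h
    exact hG.1 inferInstance
  obtain ⟨M, ⟨hMn, hMtop⟩, hmax⟩ := Set.Finite.exists_maximal
    (s := {M : Subgroup G | M.Normal ∧ M ≠ ⊤}) (Set.toFinite _) ⟨⊥, inferInstance, bot_ne_top⟩
  have : Nontrivial (G ⧸ M) := QuotientGroup.nontrivial_iff.mpr hMtop
  obtain ⟨L, hL, hLne, hLmin⟩ := Solvable.exists_minimal_normal (G := G ⧸ M)
  obtain ⟨p, hp, hLp⟩ := Solvable.exists_isPGroup_of_minimal_normal hLne hLmin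
  have := Fact.mk hp
  have hLtop : L = ⊤ := by
    by_contra h
    have h1 : M ≤ L.comap (QuotientGroup.mk' M) := by
      have := (QuotientGroup.mk' M).ker_le_comap L
      rwa [QuotientGroup.ker_mk'] at this
    have h2 : L.comap (QuotientGroup.mk' M) ≠ ⊤ := fun e => h (by
      rw [← Subgroup.map_comap_eq_self_of_surjective (QuotientGroup.mk'_surjective M) L, e,
        Subgroup.map_top_of_surjective _ (QuotientGroup.mk'_surjective M)])
    apply hLne
    rw [← Subgroup.map_comap_eq_self_of_surjective (QuotientGroup.mk'_surjective M) L,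
      le_antisymm (hmax ⟨hL.comap _, h2⟩ h1) h1, QuotientGroup.map_mk'_self]
  have hpG : IsPGroup p (G ⧸ M) := by rw [hLtop] at hLp; exact hLp.of_equiv Subgroup.topEquiv
  set K := Cfsg.pResidual p G with hK
  have hKM : K ≤ M := Transfer.pResidual_le_of_isPGroup_quotient M hpG
  have hnpc : Cfsg.HasNormalPComplement p G := by
    have := hG.2 M hMtop
    set N := (Cfsg.pResidual p M).map M.subtype with hN
    have hNn : N.Normal := inferInstance
    have hNq : ¬ p ∣ Nat.card N := by
      rw [hN, Subgroup.card_map_of_injective M.subtype_injective]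
      exact Transfer.hasNormalPComplement_iff.1 Transfer.hasNormalPComplement_of_isNilpotent
    refine Transfer.hasNormalPComplement_of_normal N hNq ?_
    obtain ⟨a, ha⟩ := hpG.exists_card_eq
    obtain ⟨b, hb⟩ := (Transfer.isPGroup_quotient_pResidual (p := p) (G := M)).exists_card_eq
    refine IsPGroup.of_card (n := b + a) ?_
    rw [← Subgroup.index_eq_card, hN, Subgroup.index_map_subtype, pow_add,
      Subgroup.index_eq_card, hb, Subgroup.index_eq_card, ha]
  have hKp : ¬ p ∣ Nat.card K := Transfer.hasNormalPComplement_iff.1 hnpc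
  have hKnil : Group.IsNilpotent K := by
    have := hG.2 M hMtop
    exact Group.nilpotent_of_mulEquiv (Subgroup.subgroupOfEquivOfLe hKM)
  obtain ⟨P⟩ : Nonempty (Sylow p G) := inferInstance
  have hPK := Transfer.sylow_sup_pResidual P
  -- a prime `q` whose Sylow subgroup of `K` is not centralised by `P`
  obtain ⟨q, hq, hqp, Q₀, hQ₀⟩ : ∃ q : ℕ, ∃ _ : Fact q.Prime, q ≠ p ∧ ∃ Q₀ : Sylow q K,
      ¬ (P : Subgroup G) ≤ Subgroup.centralizer (((Q₀ : Subgroup K).map K.subtype : Subgroup G) : Set G) := by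
    by_contra hcon
    push Not at hcon
    have hPK' : (P : Subgroup G) ≤ Subgroup.centralizer (K : Set G) := by
      haveI := hKnil
      let C := (Subgroup.centralizer ((P : Subgroup G) : Set G)).subgroupOf K
      have hC : C = ⊤ := by
        rw [← Subgroup.index_eq_one]
        by_contra hne
        obtain ⟨r, hr, hrd⟩ := Nat.exists_prime_and_dvd hne
        haveI := Fact.mk hr
        have hrp : r ≠ p := fun e => hKp (e ▸ hrd.trans (Subgroup.index_dvd_card C))
        obtain ⟨Q₁⟩ : Nonempty (Sylow r K) := inferInstance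
        refine Q₁.not_dvd_index (hrd.trans (Subgroup.index_dvd_of_le fun x hx => ?_))
        exact Subgroup.le_centralizer_iff.mp (hcon r inferInstance hrp Q₁)
          (Subgroup.mem_map_of_mem _ hx)
      exact Subgroup.le_centralizer_iff.mp (Subgroup.subgroupOf_eq_top.mp hC)
    refine hG.1 ?_
    -- then `G` is the product of the normal subgroups `P` and `K`
    have hPn : (P : Subgroup G).Normal := by
      rw [← Subgroup.normalizer_eq_top_iff, ← top_le_iff, ← hPK]
      exact sup_le Subgroup.le_normalizer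
        ((Subgroup.le_centralizer_iff.mp hPK').trans (Subgroup.centralizer_le_normalizer _))
    have : IsPGroup p (P : Subgroup G) := P.2
    have := this.isNilpotent
    have hfit : (⊤ : Subgroup G) ≤ Cfsg.fittingSubgroup G := by
      rw [← hPK]
      exact sup_le (Solvable.le_fittingSubgroup inferInstance)
        (Solvable.le_fittingSubgroup hKnil)
    have := Solvable.fittingSubgroup_isNilpotent (G := G)
    rw [top_le_iff.mp hfit] at this
    exact Group.nilpotent_of_mulEquiv Subgroup.topEquiv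
  haveI := hq
  haveI := hKnil
  set Q₁ := (Q₀ : Subgroup K).map K.subtype with hQ₁
  have hQ₀c : (Q₀ : Subgroup K).Characteristic := Q₀.characteristic_of_normal inferInstance
  have hQ₁n : Q₁.Normal := inferInstance
  have htop : (P : Subgroup G) ⊔ Q₁ = ⊤ := by
    by_contra hne
    exact hQ₀ (commute_of_isNilpotent hqp.symm (hG.2 _ hne) le_sup_left le_sup_right P.2
      (Q₀.2.map _))
  have hidx : ¬ q ∣ Q₁.index := by
    rw [hQ₁, Subgroup.index_map_subtype]
    intro hd
    rcases (Fact.out : q.Prime).dvd_mul.mp hd with h | h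
    · exact Q₀.not_dvd_index h
    · obtain ⟨k, hk⟩ := (Transfer.isPGroup_quotient_pResidual (p := p) (G := G)).exists_card_eq
      rw [Subgroup.index_eq_card, hk] at h
      exact hqp ((Nat.prime_dvd_prime_iff_eq Fact.out hp).mp ((Fact.out : q.Prime).dvd_of_dvd_pow h))
  set Q : Sylow q G := (Q₀.2.map K.subtype).toSylow hidx with hQdef
  have hQQ : (Q : Subgroup G) = Q₁ := IsPGroup.toSylow_coe _ _
  refine ⟨p, q, hp, Fact.out, hqp.symm, P, Q, ?_, hQQ ▸ hQ₁n, hQQ ▸ htop, hQQ ▸ hQ₀⟩
  -- `P` is cyclic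
  by_contra hcyc
  refine hQ₀ fun x hx => ?_
  refine commute_of_isNilpotent (H := Subgroup.zpowers x ⊔ Q₁) hqp.symm ?_ le_sup_left le_sup_right
    (P.2.to_le (Subgroup.zpowers_le.mpr hx)) (Q₀.2.map _) (Subgroup.mem_zpowers x)
  refine hG.2 _ fun htop' => hcyc ?_
  have hd : Disjoint (Subgroup.zpowers x) Q₁ := IsPGroup.disjoint_of_ne p q hqp.symm _ _
    (P.2.to_le (Subgroup.zpowers_le.mpr hx)) (Q₀.2.map _)
  have h1 := Solvable.card_sup_of_disjoint Q₁ _ hd
  have h2 := Solvable.card_sup_of_disjoint Q₁ (P : Subgroup G)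
    (IsPGroup.disjoint_of_ne p q hqp.symm _ _ P.2 (Q₀.2.map _))
  rw [htop', ← htop, h2] at h1
  have h3 : (P : Subgroup G) = Subgroup.zpowers x :=
    (Subgroup.eq_of_le_of_card_ge (Subgroup.zpowers_le.mpr hx)
      (Nat.eq_of_mul_eq_mul_right Nat.card_pos h1).le).symm
  rw [h3]
  infer_instance

/-- In a minimal non-nilpotent group the normal Sylow subgroup modulo its derived group gives a
minimal non-abelian quotient. -/
theorem quotient_minimal_nonabelian (hG : Cfsg.IsMinimalNonNilpotent G) (q : ℕ) [Fact q.Prime]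
    (hq : q ∣ Nat.card G) (Q : Sylow q G) (hQ : (Q : Subgroup G).Normal) (D : Subgroup G)
    [D.Normal] (hD : D = (commutator (Q : Subgroup G)).map (Q : Subgroup G).subtype) :
    ¬ IsMulCommutative (G ⧸ D) ∧ ∀ K : Subgroup (G ⧸ D), K ≠ ⊤ → IsMulCommutative K := by
  obtain ⟨p, r, hp, hr, hpr, P, R, hPc, hRn, hPR, hnc⟩ := structure_theorem hG
  haveI := Fact.mk hp
  haveI := Fact.mk hr
  have hrq : r = q := by
    by_contra hne
    have hqp : q = p := by
      by_contra hqp
      have h1 := hq
      rw [← Subgroup.card_top (G := G), ← hPR,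
        Solvable.card_sup_of_disjoint (R : Subgroup G) P
          (IsPGroup.disjoint_of_ne p r hpr _ _ P.2 R.2)] at h1
      obtain ⟨a, ha⟩ := P.2.exists_card_eq
      obtain ⟨b, hb⟩ := R.2.exists_card_eq
      rw [ha, hb] at h1
      rcases (Fact.out : q.Prime).dvd_mul.mp h1 with h | h
      · exact hqp ((Nat.prime_dvd_prime_iff_eq Fact.out hp).mp ((Fact.out : q.Prime).dvd_of_dvd_pow h))
      · exact hne ((Nat.prime_dvd_prime_iff_eq Fact.out hr).mp
          ((Fact.out : q.Prime).dvd_of_dvd_pow h)).symm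
    subst hqp
    have hPQ : (P : Subgroup G) = Q := by
      haveI := Q.unique_of_normal hQ
      rw [Subsingleton.elim P Q]
    exact hnc fun x hx => Subgroup.mem_centralizer_iff.mpr fun y hy =>
      ((Subgroup.commute_of_normal_of_disjoint (Q : Subgroup G) R hQ hRn
        (IsPGroup.disjoint_of_ne q r hpr _ _ Q.2 R.2) x y (hPQ ▸ hx) hy).eq).symm
  subst hrq
  have hRQ : R = Q := by
    haveI := Q.unique_of_normal hQ
    exact Subsingleton.elim _ _
  subst hRQ
  have hDQ : D ≤ (R : Subgroup G) := hD ▸ Subgroup.map_subtype_le _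
  have hRab : ∀ x ∈ (R : Subgroup G), ∀ y ∈ (R : Subgroup G),
      QuotientGroup.mk' D x * QuotientGroup.mk' D y = QuotientGroup.mk' D y * QuotientGroup.mk' D x := by
    intro x hx y hy
    rw [← commutatorElement_eq_one_iff_mul_comm, ← map_commutatorElement, QuotientGroup.mk'_apply,
      QuotientGroup.eq_one_iff, hD, Subgroup.map_subtype_commutator]
    exact Subgroup.commutator_mem_commutator hx hy
  refine ⟨fun hab => hnc ?_, fun K hK => ?_⟩
  · haveI := R.2.isNilpotent
    refine Coprime.le_centralizer_of_commutator_le_frattini Subgroup.le_normalizer_of_normal ?_ ?_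
    · obtain ⟨a, ha⟩ := P.2.exists_card_eq
      obtain ⟨b, hb⟩ := (R.2.to_subgroup (frattini (R : Subgroup G))).exists_card_eq
      rw [ha, hb]
      exact Nat.Coprime.pow a b ((Nat.coprime_primes hp hr).mpr hpr)
    · refine le_trans ?_ (Subgroup.map_mono FrattiniTheory.commutator_le_frattini_of_nilpotent)
      rw [← hD, Subgroup.commutator_le]
      intro x _ y _
      rw [← QuotientGroup.eq_one_iff, ← QuotientGroup.mk'_apply, map_commutatorElement,
        commutatorElement_eq_one_iff_mul_comm]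
      exact hab.1.1 _ _
  · set f := QuotientGroup.mk' D with hf
    have hfs : Function.Surjective f := QuotientGroup.mk'_surjective D
    set H := K.comap f with hH
    have hHtop : H ≠ ⊤ := fun e => hK (by
      rw [← Subgroup.map_comap_eq_self_of_surjective hfs K, ← hH, e,
        Subgroup.map_top_of_surjective f hfs])
    have hnil := hG.2 H hHtop
    obtain ⟨T⟩ : Nonempty (Sylow p H) := inferInstance
    obtain ⟨S, hS⟩ := (T.2.map H.subtype).exists_le_sylow
    haveI : IsCyclic (S : Subgroup G) := by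
      obtain ⟨g, hg⟩ := MulAction.exists_smul_eq G P S
      rw [← hg, Sylow.coe_subgroup_smul]
      exact isCyclic_of_surjective (Subgroup.equivSMul (MulAut.conj g) (P : Subgroup G)).toMonoidHom
        (Subgroup.equivSMul (MulAut.conj g) (P : Subgroup G)).surjective
    set T' := (T : Subgroup H).map H.subtype with hT'
    have hgen : H ≤ ((R : Subgroup G) ⊓ H) ⊔ T' := by
      have h1 : (((R : Subgroup G) ⊓ H) ⊔ T').subgroupOf H = ⊤ := by
        rw [← Subgroup.index_eq_one]
        by_contra hne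
        obtain ⟨s, hs, hsd⟩ := Nat.exists_prime_and_dvd hne
        by_cases hsp : s = p
        · subst hsp
          refine T.not_dvd_index (hsd.trans (Subgroup.index_dvd_of_le fun x hx => ?_))
          exact Subgroup.mem_sup_right (Subgroup.mem_map_of_mem _ hx)
        · have h2 : s ∣ (R : Subgroup G).relIndex H := hsd.trans (by
            refine dvd_trans (Subgroup.relIndex_dvd_of_le_left _ le_sup_left) ?_
            rw [Subgroup.inf_relIndex_right])
          have h3 : s ∣ (R : Subgroup G).index :=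
            h2.trans (Subgroup.relIndex_dvd_index_of_normal _ _)
          have h4 : s ∣ Nat.card G := h3.trans (Subgroup.index_dvd_card _)
          rw [← Subgroup.card_top (G := G), ← hPR,
            Solvable.card_sup_of_disjoint (R : Subgroup G) P
              (IsPGroup.disjoint_of_ne p r hpr _ _ P.2 R.2)] at h4
          rcases hs.dvd_mul.mp h4 with h | h
          · obtain ⟨a, ha⟩ := P.2.exists_card_eq
            rw [ha] at h
            exact hsp ((Nat.prime_dvd_prime_iff_eq hs hp).mp (hs.dvd_of_dvd_pow h))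
          · obtain ⟨b, hb⟩ := R.2.exists_card_eq
            rw [hb] at h
            obtain rfl := (Nat.prime_dvd_prime_iff_eq hs hr).mp (hs.dvd_of_dvd_pow h)
            exact R.not_dvd_index h3
      exact Subgroup.subgroupOf_eq_top.mp h1
    refine ⟨⟨fun a b => ?_⟩⟩
    obtain ⟨x, hx⟩ := hfs a.1
    obtain ⟨y, hy⟩ := hfs b.1
    have hxH : x ∈ H := by change f x ∈ K; rw [hx]; exact a.2
    have hyH : y ∈ H := by change f y ∈ K; rw [hy]; exact b.2
    have key : H.map f ≤ Subgroup.centralizer ((H.map f : Subgroup (G ⧸ D)) : Set (G ⧸ D)) := by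
      refine (Subgroup.map_mono hgen).trans ?_
      rw [Subgroup.le_centralizer_iff]
      refine (Subgroup.map_mono hgen).trans ?_
      rw [Subgroup.map_sup]
      have hc : T' ≤ Subgroup.centralizer (((R : Subgroup G) ⊓ H : Subgroup G) : Set G) :=
        commute_of_isNilpotent hpr hnil (Subgroup.map_subtype_le _) inf_le_right (T.2.map _)
          (R.2.to_le inf_le_left)
      refine sup_le ?_ ?_ <;> rw [Subgroup.le_centralizer_iff] <;> refine sup_le ?_ ?_
      all_goals
        rintro _ ⟨u, hu, rfl⟩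
        refine Subgroup.mem_centralizer_iff.mpr ?_
        rintro _ ⟨v, hv, rfl⟩
      · exact hRab v hv.1 u hu.1
      · rw [← map_mul, ← map_mul, (Subgroup.mem_centralizer_iff.mp (hc hu) v hv)]
      · rw [← map_mul, ← map_mul, (Subgroup.mem_centralizer_iff.mp (hc hv) u hu)]
      · rw [← map_mul, ← map_mul, setLike_mul_comm (s := (S : Subgroup G)) (hS hv) (hS hu)]
    apply Subtype.ext
    change (a : G ⧸ D) * b = b * a
    rw [← hx, ← hy]
    exact Subgroup.mem_centralizer_iff.mp (key (Subgroup.mem_map_of_mem _ hyH)) _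
      (Subgroup.mem_map_of_mem _ hxH)

/-- Minimal non-abelian groups. -/
theorem minimal_nonabelian (hna : ¬ IsMulCommutative G)
    (h : ∀ H : Subgroup G, H ≠ ⊤ → IsMulCommutative H) :
    (∃ p : ℕ, p.Prime ∧ IsPGroup p G) ∨ ∃ p q : ℕ, p.Prime ∧ q.Prime ∧ p ≠ q ∧
      ∃ (P : Sylow p G) (Q : Sylow q G), IsCyclic P ∧ (Q : Subgroup G).Normal ∧
        Cfsg.IsElementaryAbelian q (Q : Subgroup G) ∧ (P : Subgroup G) ⊔ Q = ⊤ := by
  have hnil : ∀ H : Subgroup G, H ≠ ⊤ → Group.IsNilpotent H := fun H hH => by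
    haveI := h H hH
    open scoped IsMulCommutative in infer_instance
  by_cases hG : Group.IsNilpotent G
  · left
    have : Nontrivial G := by
      by_contra h'
      have : Subsingleton G := not_nontrivial_iff_subsingleton.mp h'
      exact hna ⟨⟨fun a b => Subsingleton.elim _ _⟩⟩
    obtain ⟨p, hp, hpd⟩ := Nat.exists_prime_and_dvd (Finite.one_lt_card (α := G)).ne'
    haveI := Fact.mk hp
    refine ⟨p, hp, ?_⟩
    obtain ⟨P⟩ : Nonempty (Sylow p G) := inferInstance
    by_cases hPtop : (P : Subgroup G) = ⊤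
    · exact (hPtop ▸ P.2 : IsPGroup p (⊤ : Subgroup G)).of_equiv Subgroup.topEquiv
    exfalso
    have hPab := h _ hPtop
    obtain ⟨N, hN, hc⟩ := Transfer.exists_isComplement'
      (Transfer.hasNormalPComplement_of_isNilpotent (p := p)) P
    have hNtop : N ≠ ⊤ := fun e => by
      rw [e, Subgroup.isComplement'_top_left] at hc
      have h1 := P.card_eq_multiplicity
      rw [hc, Subgroup.card_bot] at h1
      exact (Nat.one_lt_pow (hp.factorization_pos_of_dvd Nat.card_pos.ne' hpd).ne' hp.one_lt).ne h1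
    have hNab := h N hNtop
    have hPn : (P : Subgroup G).Normal := inferInstance
    refine hna ⟨⟨fun a b => ?_⟩⟩
    have ha : a ∈ ((N ⊔ P : Subgroup G) : Set G) := by rw [hc.sup_eq_top]; trivial
    have hb : b ∈ ((N ⊔ P : Subgroup G) : Set G) := by rw [hc.sup_eq_top]; trivial
    rw [Subgroup.normal_mul] at ha hb
    obtain ⟨n, hn, x, hx, rfl⟩ := ha
    obtain ⟨m, hm, y, hy, rfl⟩ := hb
    have c1 : Commute n m := setLike_mul_comm (s := N) hn hm
    have c2 : Commute x y := setLike_mul_comm (s := (P : Subgroup G)) hx hy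
    have c3 : ∀ u ∈ N, ∀ v ∈ (P : Subgroup G), Commute u v := fun u hu v hv =>
      Subgroup.commute_of_normal_of_disjoint _ _ hN hPn hc.disjoint u v hu hv
    exact ((c1.mul_right (c3 n hn y hy)).mul_left (((c3 m hm x hx).symm).mul_right c2)).eq
  right
  obtain ⟨p, q, hp, hq, hpq, P, Q, hPc, hQn, hPQ, hnc⟩ := structure_theorem ⟨hG, hnil⟩
  haveI := Fact.mk hp
  haveI := Fact.mk hq
  have hQtop : (Q : Subgroup G) ≠ ⊤ := fun e => hG (by
    have h1 : IsPGroup q G := (e ▸ Q.2 : IsPGroup q (⊤ : Subgroup G)).of_equiv Subgroup.topEquiv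
    exact h1.isNilpotent)
  haveI := h _ hQtop
  refine ⟨p, q, hp, hq, hpq, P, Q, hPc, hQn, ⟨inferInstance, ?_⟩, hPQ⟩
  -- the elements of order at most `q`
  let R : Subgroup G :=
    { carrier := {x | x ∈ (Q : Subgroup G) ∧ x ^ q = 1}
      one_mem' := ⟨Subgroup.one_mem _, one_pow q⟩
      mul_mem' := fun {x y} hx hy => ⟨Subgroup.mul_mem _ hx.1 hy.1, by
        rw [(show Commute x y from setLike_mul_comm (s := (Q : Subgroup G)) hx.1 hy.1).mul_pow,
          hx.2, hy.2, one_mul]⟩
      inv_mem' := fun {x} hx => ⟨Subgroup.inv_mem _ hx.1, by rw [inv_pow, hx.2, inv_one]⟩ }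
  have hRQ : R ≤ Q := fun x hx => hx.1
  have hRn : R.Normal := ⟨fun x hx g => ⟨hQn.conj_mem x hx.1 g, by
    rw [conj_pow, hx.2, mul_one, mul_inv_cancel]⟩⟩
  intro x hx
  by_contra hxq
  have hRlt : R < Q := lt_of_le_of_ne hRQ fun e => hxq (e.ge hx).2
  have hPRtop : (P : Subgroup G) ⊔ R ≠ ⊤ := fun e => by
    have h1 := Solvable.card_sup_of_disjoint R (P : Subgroup G)
      (IsPGroup.disjoint_of_ne p q hpq _ _ P.2 (Q.2.to_le hRQ))
    have h2 := Solvable.card_sup_of_disjoint (Q : Subgroup G) (P : Subgroup G)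
      (IsPGroup.disjoint_of_ne p q hpq _ _ P.2 Q.2)
    rw [e, ← hPQ, h2] at h1
    exact hRlt.ne (Subgroup.eq_of_le_of_card_ge hRQ (Nat.eq_of_mul_eq_mul_left Nat.card_pos h1).le)
  haveI := h _ hPRtop
  refine hnc (Coprime.le_centralizer_of_forall_prime_order Subgroup.le_normalizer_of_normal ?_
    fun v hv hvp => ?_)
  · obtain ⟨a, ha⟩ := P.2.exists_card_eq
    obtain ⟨b, hb⟩ := Q.2.exists_card_eq
    rw [ha, hb]
    exact Nat.Coprime.pow a b ((Nat.coprime_primes hp hq).mpr hpq)
  · have hvR : v ∈ R := by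
      refine ⟨hv, ?_⟩
      obtain ⟨k, hk⟩ := (IsPGroup.iff_orderOf.mp Q.2) ⟨v, hv⟩
      rw [Subgroup.orderOf_mk] at hk
      rw [hk] at hvp
      have hk1 : k = 1 := (Nat.Prime.pow_eq_iff hvp).mp rfl |>.2
      rw [hk1, pow_one] at hk
      rw [← hk]
      exact pow_orderOf_eq_one v
    exact Subgroup.mem_centralizer_iff.mpr fun y hy =>
      setLike_mul_comm (s := (P : Subgroup G) ⊔ R) (Subgroup.mem_sup_left hy)
        (Subgroup.mem_sup_right hvR)

end CfsgLib.MinimalNonNilpotent
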